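import Cfsg.Agent.Lib.SelfCentSimple.Odd
import Cfsg.Agent.Lib.TwoFusion.Transfer
import Cfsg.Agent.Lib.Involution.BaerSuzuki
import Cfsg.Agent.Lib.BSW.Two
import Cfsg.Agent.S0201

/-!
# Simple groups with self-centralizing non-cyclic subgroups: the involution centralizer

* `isPGroup_cent` : the centralizer of an involution lying in a four-group is a 2-group.
* `exists_hyp` : the hypotheses of Brauer, Suzuki and Wall hold, the centralizer being a 2-group.
-/

set_option autoImplicit false
set_option linter.style.haveILetI false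
set_option linter.unusedSectionVars false

namespace Cfsg.Agent.SelfCentSimple

open Subgroup
open scoped commutatorElement
open Cfsg.Agent.BSW (cent mem_cent)

universe u

variable {G : Type u} [Group G] [Finite G]

theorem not_isCyclic_two_invol {H : Subgroup G} {a b : G} (ha : a ∈ H) (hb : b ∈ H)
    (hao : orderOf a = 2) (hbo : orderOf b = 2) (hne : a ≠ b) : ¬ IsCyclic H := fun hc => by
  haveI := Fact.mk Nat.prime_two
  have h := PGroup.mem_zpowers_of_isCyclic hc ha hb hao (orderOf_dvd_iff_pow_eq_one.1 hbo.dvd)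
  obtain ⟨k, hk⟩ := mem_powers_iff_mem_zpowers.2 h
  simp only at hk
  rw [← pow_mod_orderOf, hao] at hk
  rcases Nat.mod_two_eq_zero_or_one k with e | e
  · rw [e, pow_zero] at hk; exact Involution.ne_one hbo hk.symm
  · rw [e, pow_one] at hk; exact hne hk

theorem invol_not_zpowers {a b : G} (hao : orderOf a = 2) (hbo : orderOf b = 2) (hne : a ≠ b) :
    b ∉ zpowers a := fun h =>
  not_isCyclic_two_invol (mem_zpowers a) h hao hbo hne inferInstance

/-- In the centralizer of `t` an involution other than `t` has at most four elements centralizing it. -/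
theorem card_cent_le (hSC : SelfCentNC.SC G) {t : G} (ht : orderOf t = 2) {H : Subgroup G}
    (hH : H ≤ cent t) {u : H} (hu : orderOf u = 2) (hut : (u : G) ≠ t) :
    Nat.card (cent u) ≤ 2 ^ 2 ∧ ∀ w : H, w * u = u * w →
      (w : G) = 1 ∨ (w : G) = t ∨ (w : G) = u ∨ (w : G) = t * u := by
  classical
  haveI := Fact.mk Nat.prime_two
  rw [← Subgroup.orderOf_coe] at hu
  have hc : Commute t (u : G) := (mem_cent.1 (hH u.2)).symm
  obtain ⟨V, hV, -, htV, huV, hmem, -⟩ := exists_pair hSC ht hu hc (invol_not_zpowers ht hu hut.symm)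
  have hm : ∀ w : H, w * u = u * w → (w : G) ∈ V := fun w hw =>
    hmem _ (mem_cent.1 (hH w.2)) (congrArg Subtype.val hw)
  refine ⟨?_, fun w hw => ?_⟩
  · rw [← hV]
    exact Nat.card_le_card_of_injective
      (fun a => (⟨((a : H) : G), hm _ (mem_cent.1 a.2)⟩ : V))
      (fun a b h => Subtype.ext (Subtype.ext (congrArg Subtype.val h :)))
  · by_contra hno
    push Not at hno
    obtain ⟨h1, h2, h3, h4⟩ := hno
    have hsub : ({(w : G), 1, t, (u : G), t * u} : Set G) ⊆ (V : Set G) := by
      intro a ha
      simp only [Set.mem_insert_iff, Set.mem_singleton_iff] at ha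
      rcases ha with rfl | rfl | rfl | rfl | rfl
      exacts [hm w hw, one_mem _, htV, huV, mul_mem htV huV]
    have hle := Set.ncard_le_ncard hsub (Set.toFinite _)
    have hVn : (V : Set G).ncard = 4 := by rw [← Nat.card_coe_set_eq]; exact hV
    have htu : t * (u : G) ≠ 1 := fun e => hut (by
      rw [eq_inv_of_mul_eq_one_right e, Involution.inv_eq ht])
    have e1 : (1 : G) ∉ ({t, (u : G), t * u} : Set G) := by
      simp only [Set.mem_insert_iff, Set.mem_singleton_iff, not_or]
      exact ⟨(Involution.ne_one ht).symm, (Involution.ne_one hu).symm, htu.symm⟩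
    have e2 : t ∉ ({(u : G), t * u} : Set G) := by
      simp only [Set.mem_insert_iff, Set.mem_singleton_iff, not_or, left_eq_mul]
      exact ⟨hut.symm, Involution.ne_one hu⟩
    have e3 : (u : G) ∉ ({t * (u : G)} : Set G) := by
      simp only [Set.mem_singleton_iff, right_eq_mul]
      exact Involution.ne_one ht
    have e0 : (w : G) ∉ ({1, t, (u : G), t * u} : Set G) := by
      simp only [Set.mem_insert_iff, Set.mem_singleton_iff, not_or]
      exact ⟨h1, h2, h3, h4⟩
    rw [Set.ncard_insert_of_notMem e0, Set.ncard_insert_of_notMem e1, Set.ncard_insert_of_notMem e2,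
      Set.ncard_insert_of_notMem e3, Set.ncard_singleton, hVn] at hle
    omega

/-- In a 2-subgroup of the centralizer of `t` containing `t` and another involution `u`, the derived
subgroup has index 4, and the coset of `u` is its class. -/
theorem two_group_class (hSC : SelfCentNC.SC G) {t : G} (ht : orderOf t = 2) {H : Subgroup G}
    (hH : H ≤ cent t) (hH2 : IsPGroup 2 H) (htH : t ∈ H) {u : H} (hu : orderOf u = 2)
    (hut : (u : G) ≠ t) :
    (_root_.commutator H).index = 4 ∧ u ∉ _root_.commutator H ∧
      ∀ w : H, u⁻¹ * w ∈ _root_.commutator H → IsConj u w ∧ (w : G) ≠ t := by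
  haveI := Fact.mk Nat.prime_two
  have hnc : ¬ IsCyclic H := not_isCyclic_two_invol htH u.2 ht (by rw [Subgroup.orderOf_coe]; exact hu) hut.symm
  obtain ⟨h4, hconj⟩ := class_eq_coset hH2 hnc (card_cent_le hSC ht hH hu hut).1
  refine ⟨by rw [h4]; norm_num, fun hu' => ?_, fun w hw => ⟨hconj w hw, fun hwt => ?_⟩⟩
  · have h := hconj 1 (by rw [mul_one]; exact inv_mem hu')
    have := Involution.orderOf_eq_of_isConj h
    rw [hu, orderOf_one] at this
    omega
  · obtain ⟨c, hc⟩ := isConj_iff.1 (hconj w hw)
    refine hut ?_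
    have h2 : (c : G) * u * (c : G)⁻¹ = t := by rw [← hwt, ← hc]; rfl
    calc (u : G) = (c : G)⁻¹ * ((c : G) * u * (c : G)⁻¹) * c := by group
      _ = (c : G)⁻¹ * (t * c) := by rw [h2, mul_assoc]
      _ = (c : G)⁻¹ * ((c : G) * t) := by rw [mem_cent.1 (hH c.2)]
      _ = t := by group

/-- The centralizer of an involution lying in a four-group is a 2-group. -/
theorem isPGroup_cent (hSC : SelfCentNC.SC G) {t s : G} (ht : orderOf t = 2) (hs : orderOf s = 2)
    (hst : s ≠ t) (hc : Commute s t) : IsPGroup 2 (cent t) := by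
  classical
  haveI := Fact.mk Nat.prime_two
  set X := cent t with hX
  set sX : X := ⟨s, mem_cent.2 hc.eq⟩ with hsXdef
  set tX : X := ⟨t, mem_cent.2 rfl⟩ with htXdef
  have hsXo : orderOf sX = 2 := by rw [← Subgroup.orderOf_coe]; exact hs
  -- `s` lies in a normal 2-subgroup
  obtain ⟨N, hN, hN2, hsN⟩ : ∃ N : Subgroup X, N.Normal ∧ IsPGroup 2 N ∧ sX ∈ N := by
    by_contra hno
    push Not at hno
    obtain ⟨h, h1, hodd, hinv⟩ := Involution.exists_inverted_odd hsXo hno
    set g : G := (h : G) with hg
    have hgodd : Odd (orderOf g) := by rw [hg, Subgroup.orderOf_coe]; exact hodd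
    have hginv : s * g * s⁻¹ = g⁻¹ := congrArg Subtype.val hinv
    have hg1 : g ≠ 1 := fun e => h1 (Subtype.ext e)
    have hncomm : s * g ≠ g * s := fun e => by
      rw [e, mul_inv_cancel_right] at hginv
      obtain ⟨k, hk⟩ := hgodd
      have h2 : orderOf g ∣ 2 := orderOf_dvd_of_pow_eq_one (by rw [sq]; exact mul_eq_one_iff_eq_inv.2 hginv)
      rcases (Nat.dvd_prime Nat.prime_two).1 h2 with e' | e'
      · exact hg1 (orderOf_eq_one_iff.1 e')
      · omega
    have hy : orderOf (s * g) = 2 := by
      refine Involution.orderOf_of_sq ?_ ?_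
      · calc s * g * (s * g) = (s * g * s⁻¹) * (s * s) * g := by group
          _ = 1 := by rw [hginv, Involution.mul_self hs, mul_one, inv_mul_cancel]
      · intro e
        refine hncomm ?_
        rw [eq_inv_of_mul_eq_one_right e, mul_inv_cancel, inv_mul_cancel]
    have hgprod : s * (s * g) = g := by rw [← mul_assoc, Involution.mul_self hs, one_mul]
    have hH : ¬ IsCyclic (closure ({s, s * g} : Set G)) := not_isCyclic_of_not_commute
      (subset_closure (by simp)) (show g ∈ closure ({s, s * g} : Set G) by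
        have := mul_mem (subset_closure (show s ∈ ({s, s * g} : Set G) by simp))
          (subset_closure (show s * g ∈ ({s, s * g} : Set G) by simp))
        rwa [hgprod] at this) hncomm
    have ht' : t ∈ closure ({s, s * g} : Set G) := mem_of_noncyclic hSC hH (by
      rw [closure_le]
      rintro a (rfl | rfl)
      · exact mem_cent.2 hc.eq
      · exact mul_mem (mem_cent.2 hc.eq) h.2)
    obtain ⟨k, hk⟩ := (Involution.mem_closure_pair_iff hs hy).1 ht'
    rw [hgprod] at hk
    rcases hk with hk | hk
    · have := orderOf_dvd_of_mem_zpowers (show t ∈ zpowers g from ⟨k, hk.symm⟩)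
      rw [ht] at this
      exact absurd (hgodd.of_dvd_nat this) (by simp)
    · refine hncomm ?_
      have hgt : g * t = t * g := mem_cent.1 h.2
      rw [hk, mul_assoc s, (Commute.zpow_self g k).eq, ← mul_assoc, ← mul_assoc] at hgt
      exact (mul_right_cancel hgt).symm
  haveI := hN
  haveI htn : (zpowers tX).Normal := ⟨fun a ha g => by
    obtain ⟨i, rfl⟩ := ha
    have : Commute g tX := Subtype.ext (mem_cent.1 g.2)
    rw [(this.zpow_right i).eq, mul_inv_cancel_right]
    exact zpow_mem (mem_zpowers _) i⟩
  set W : Subgroup X := N ⊔ zpowers tX with hW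
  haveI hWn : W.Normal := by rw [hW]; infer_instance
  have hW2 : IsPGroup 2 W := hN2.to_sup_of_normal_right (IsPGroup.of_card (n := 1)
    (by rw [Nat.card_zpowers, ← Subgroup.orderOf_coe, pow_one]; exact ht))
  -- now an element of odd prime order
  rw [IsPGroup.iff_card]
  by_contra hno
  obtain ⟨r, hr, hrd, hr2⟩ : ∃ r, r.Prime ∧ r ∣ Nat.card X ∧ r ≠ 2 := by
    by_contra h
    push Not at h
    exact hno ⟨_, Nat.eq_prime_pow_of_unique_prime_dvd Nat.card_pos.ne' (fun {d} hd hdd => h d hd hdd)⟩
  haveI := Fact.mk hr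
  obtain ⟨y, hy⟩ := exists_prime_orderOf_dvd_card' (G := X) r hrd
  set φ : MulAut W := MulAut.conjNormal y with hφ
  have hφv : ∀ w : W, ((φ w : W) : X) = y * w * y⁻¹ := fun w => MulAut.conjNormal_apply y w
  -- W as a subgroup of G
  set HW : Subgroup G := W.map X.subtype with hHW
  let ε : W ≃* HW := W.equivMapOfInjective X.subtype X.subtype_injective
  have hεc : ∀ w : W, ((ε w : HW) : G) = ((w : X) : G) := fun w => rfl
  have hHWle : HW ≤ cent t := map_subtype_le W
  have hHW2 : IsPGroup 2 HW := hW2.of_equiv ε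
  set tW : W := ⟨tX, mem_sup_right (mem_zpowers _)⟩ with htW
  set sW : W := ⟨sX, mem_sup_left hsN⟩ with hsW
  set D := _root_.commutator W with hD
  have hcls : ∀ u : W, orderOf u = 2 → u ≠ tW → D.index = 4 ∧ u ∉ D ∧
      ∀ w : W, u⁻¹ * w ∈ D → orderOf w = 2 ∧ w ≠ tW := by
    intro u hu hut
    have hut' : ((ε u : HW) : G) ≠ t := fun e => hut (Subtype.ext (Subtype.ext e))
    obtain ⟨h1, h2, h3⟩ := two_group_class hSC ht hHWle hHW2 ⟨tX, mem_sup_right (mem_zpowers _), rfl⟩
      (u := ε u) (by rw [MulEquiv.orderOf_eq]; exact hu) hut'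
    have hmap : ∀ w : W, w ∈ D ↔ ε w ∈ _root_.commutator HW := by
      have hm : D.map ε.toMonoidHom = _root_.commutator HW := by
        rw [hD, _root_.commutator_def, _root_.commutator_def, Subgroup.map_commutator,
          Subgroup.map_top_of_surjective _ ε.surjective]
      intro w
      rw [← hm]
      exact (Subgroup.mem_map_iff_mem (f := ε.toMonoidHom) ε.injective).symm
    refine ⟨?_, fun hu' => h2 ((hmap u).1 hu'), fun w hw => ?_⟩
    · rw [← h1]
      have hm : D.map ε.toMonoidHom = _root_.commutator HW := by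
        rw [hD, _root_.commutator_def, _root_.commutator_def, Subgroup.map_commutator,
          Subgroup.map_top_of_surjective _ ε.surjective]
      rw [← hm]
      exact (Subgroup.index_map_of_bijective (f := ε.toMonoidHom) ε.bijective D).symm
    · obtain ⟨hw1, hw2⟩ := h3 (ε w) (by rw [← map_inv, ← map_mul]; exact (hmap _).1 hw)
      refine ⟨?_, fun e => hw2 (by rw [e]; rfl)⟩
      rw [← MulEquiv.orderOf_eq ε, ← Involution.orderOf_eq_of_isConj hw1, MulEquiv.orderOf_eq, hu]
  have hsWo : orderOf sW = 2 := by rw [← Subgroup.orderOf_coe]; exact hsXo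
  have hsne : sW ≠ tW := fun e => hst (congrArg (fun w : W => ((w : X) : G)) e)
  obtain ⟨hidx, hsD, hscls⟩ := hcls sW hsWo hsne
  have hφD : ∀ w ∈ D, φ w ∈ D := by
    intro w hw
    have hsurj : Function.Surjective φ.toMonoidHom := φ.surjective
    have e : (⊤ : Subgroup W).map φ.toMonoidHom = ⊤ := Subgroup.map_top_of_surjective _ hsurj
    have : D.map φ.toMonoidHom = D := by
      rw [hD, _root_.commutator_def, Subgroup.map_commutator, e]
    rw [← this]
    exact ⟨w, hw, rfl⟩
  have hφt : φ tW = tW := by
    apply Subtype.ext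
    rw [hφv]
    have : Commute y tX := Subtype.ext (mem_cent.1 y.2)
    show y * tX * y⁻¹ = tX
    rw [this.eq, mul_inv_cancel_right]
  have hφinv : ∀ w : W, orderOf w = 2 → w ≠ tW → orderOf (φ w) = 2 ∧ φ w ≠ tW := fun w hw hwt =>
    ⟨by rw [MulEquiv.orderOf_eq]; exact hw, fun e => hwt (φ.injective (e.trans hφt.symm))⟩
  -- no element of `W` in the class of an involution other than `t` commutes with `y`
  have hnofix : ∀ w : W, orderOf w = 2 → w ≠ tW → φ w ≠ w := by
    intro w hw hwt e
    have hc' : Commute (y : G) ((w : X) : G) := by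
      have h := congrArg (fun a : W => ((a : X) : G)) e
      rw [hφv] at h
      exact mul_inv_eq_iff_eq_mul.1 h
    have hwo : orderOf ((w : X) : G) = 2 := by rw [Subgroup.orderOf_coe, Subgroup.orderOf_coe]; exact hw
    have hwt' : ((w : X) : G) ≠ t := fun e' => hwt (Subtype.ext (Subtype.ext e'))
    obtain ⟨V, -, -, -, -, hV, hV2⟩ := exists_pair hSC ht hwo (mem_cent.1 (w : X).2).symm
      (invol_not_zpowers ht hwo hwt'.symm)
    have := orderOf_dvd_of_pow_eq_one (hV2 _ (hV _ (mem_cent.1 y.2) hc'))
    rw [Subgroup.orderOf_coe, hy] at this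
    exact hr2 ((Nat.prime_dvd_prime_iff_eq hr Nat.prime_two).1 this)
  set π := QuotientGroup.mk' D with hπ
  have hπeq : ∀ a b : W, π a = π b ↔ a⁻¹ * b ∈ D := fun a b => QuotientGroup.eq
  by_cases hfix : π (φ sW) = π sW
  · -- `y` permutes the coset
    set S : Set X := (fun w : W => (w : X)) '' {w : W | π w = π sW} with hS
    have hst' : ∀ w : W, π w = π sW → π (φ w) = π sW := by
      intro w hw
      rw [← hfix]
      rw [hπeq] at hw ⊢
      rw [← map_inv φ, ← map_mul φ]
      exact hφD _ hw
    have h := OrderSpec.card_dvd_of_free_conj (zpowers y) S ?_ ?_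
    · rw [Nat.card_zpowers, hy] at h
      obtain ⟨k, hk⟩ := IsPGroup.iff_card.1 (hW2.to_subgroup D)
      have hSc : S.ncard = 2 ^ k := by
        rw [hS, Set.ncard_image_of_injective _ Subtype.val_injective, ← hk]
        have : {w : W | π w = π sW} = (fun d => sW * d) '' (D : Set W) := by
          ext w
          constructor
          · intro hw
            exact ⟨sW⁻¹ * w, (hπeq sW w).1 (Eq.symm hw), mul_inv_cancel_left _ _⟩
          · rintro ⟨d, hd, rfl⟩
            exact ((hπeq sW (sW * d)).2 (by rw [inv_mul_cancel_left]; exact hd)).symm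
        rw [this, Set.ncard_image_of_injective _ (mul_right_injective sW), ← Nat.card_coe_set_eq]
        rfl
      rw [hSc] at h
      exact hr2 ((Nat.prime_dvd_prime_iff_eq hr Nat.prime_two).1 (hr.dvd_of_dvd_pow h))
    · intro g hg
      obtain ⟨i, rfl⟩ := mem_powers_iff_mem_zpowers.2 hg
      induction i with
      | zero => intro a ha; simpa using ha
      | succ i ih =>
        intro a ha
        obtain ⟨w, hw, hwe⟩ := ih (pow_mem (mem_zpowers y) i) a ha
        refine ⟨φ w, hst' w hw, ?_⟩
        show ((φ w : W) : X) = y ^ (i + 1) * a * (y ^ (i + 1))⁻¹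
        rw [hφv, pow_succ', show (w : X) = y ^ i * a * (y ^ i)⁻¹ from hwe]
        group
    · rintro g hg _ ⟨w, hw, rfl⟩ hgw
      by_contra hg1
      have hgy : zpowers g = zpowers y := by
        refine eq_of_le_of_card_ge (zpowers_le.2 hg) ?_
        rw [Nat.card_zpowers, Nat.card_zpowers, hy]
        rcases (Nat.dvd_prime hr).1 (hy ▸ orderOf_dvd_of_mem_zpowers hg) with e | e
        · exact absurd (orderOf_eq_one_iff.1 e) hg1
        · exact le_of_eq e.symm
      obtain ⟨i, hi⟩ : y ∈ zpowers g := hgy ▸ mem_zpowers y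
      obtain ⟨hwo, hwt⟩ := hscls w ((hπeq sW w).1 (Eq.symm hw))
      refine hnofix w hwo hwt (Subtype.ext ?_)
      rw [hφv, mul_inv_eq_iff_eq_mul, ← hi]
      exact (Commute.zpow_left (show Commute g (w : X) from hgw) i).eq
  · -- the three cosets
    set φq : W ⧸ D → W ⧸ D := Quotient.map' (fun w => φ w) (fun a b h => by
      rw [QuotientGroup.leftRel_apply] at h ⊢
      rw [← map_inv φ, ← map_mul φ]; exact hφD _ h) with hφq
    have hq : ∀ w, π (φ w) = φq (π w) := fun w => rfl
    have hiter : ∀ k : ℕ, ∀ w, π ((φ ^ k) w) = φq^[k] (π w) := by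
      intro k
      induction k with
      | zero => intro w; rfl
      | succ k ih => intro w; rw [pow_succ', MulAut.mul_apply, hq, ih, Function.iterate_succ_apply']
    have hφr : φ ^ r = 1 := by rw [hφ, ← map_pow, ← hy, pow_orderOf_eq_one, map_one]
    set a := π sW with ha
    set b := π (φ sW) with hb
    set c := π (φ (φ sW)) with hc'
    obtain ⟨h1o, h1t⟩ := hφinv sW hsWo hsne
    obtain ⟨h2o, h2t⟩ := hφinv _ h1o h1t
    obtain ⟨-, h1D, h1cls⟩ := hcls _ h1o h1t
    obtain ⟨-, h2D, h2cls⟩ := hcls _ h2o h2t
    have hone : ∀ w : W, π w = 1 ↔ w ∈ D := fun w => QuotientGroup.eq_one_iff w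
    have ha1 : a ≠ 1 := fun e => hsD ((hone _).1 e)
    have hb1 : b ≠ 1 := fun e => h1D ((hone _).1 e)
    have hc1 : c ≠ 1 := fun e => h2D ((hone _).1 e)
    have hodd : Odd r := hr.odd_of_ne_two hr2
    have hca : c ≠ a := by
      intro e
      have h2 : φq (φq a) = a := by rw [ha, ← hq, ← hq]; exact e
      obtain ⟨j, hj⟩ := hodd
      have hper : φq^[r] a = a := by rw [ha, ← hiter, hφr, MulAut.one_apply]
      have hj2 : ∀ i, φq^[2 * i] a = a := by
        intro i
        induction i with
        | zero => rfl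
        | succ i ih =>
          rw [show 2 * (i + 1) = (2 * i).succ.succ by omega, Function.iterate_succ_apply',
            Function.iterate_succ_apply', ih, h2]
      rw [hj, show 2 * j + 1 = (2 * j).succ from rfl, Function.iterate_succ_apply', hj2, ha, ← hq] at hper
      exact hfix hper
    have hcb : c ≠ b := by
      intro e
      have h1 : φq b = b := by rw [hb, ← hq]; exact e
      have hper : φq^[r] a = a := by rw [ha, ← hiter, hφr, MulAut.one_apply]
      obtain ⟨j, hj⟩ := hr.pos.nat_succ_le.trans le_rfl |> fun h => Nat.exists_eq_add_of_le h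
      have hb' : φq^[r] a = b := by
        rw [hj, show Nat.succ 0 + j = j.succ by omega, Function.iterate_succ_apply]
        have : φq a = b := by rw [ha, ← hq]
        rw [this]
        exact Function.iterate_fixed h1 j
      exact hfix (hb'.symm.trans hper)
    have hba : b ≠ a := hfix
    have hcard4 : Nat.card (W ⧸ D) = 4 := by rw [← Subgroup.index_eq_card]; exact hidx
    have hall : ∀ x : W ⧸ D, x = 1 ∨ x = a ∨ x = b ∨ x = c := by
      intro x
      by_contra hx
      push Not at hx
      obtain ⟨x1, xa, xb, xc⟩ := hx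
      have hle := Set.ncard_le_ncard (Set.subset_univ ({x, 1, a, b, c} : Set (W ⧸ D))) Set.finite_univ
      rw [Set.ncard_univ, hcard4, Set.ncard_insert_of_notMem (by simp [x1, xa, xb, xc]),
        Set.ncard_insert_of_notMem (by simp [ha1.symm, hb1.symm, hc1.symm]),
        Set.ncard_insert_of_notMem (by simp [hba.symm, hca.symm]),
        Set.ncard_insert_of_notMem (by simp [hcb.symm]), Set.ncard_singleton] at hle
      omega
    have htD : π tW = 1 := by
      rcases hall (π tW) with e | e | e | e
      · exact e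
      · exact absurd rfl (hscls tW ((hπeq _ _).1 (Eq.symm e))).2
      · exact absurd rfl (h1cls tW ((hπeq _ _).1 (Eq.symm e))).2
      · exact absurd rfl (h2cls tW ((hπeq _ _).1 (Eq.symm e))).2
    have haa : a * a = 1 := by
      rw [ha, ← map_mul, Involution.mul_self hsWo, map_one]
    have hab : a * b = c := by
      rcases hall (a * b) with e | e | e | e
      · exact absurd (by rw [eq_inv_of_mul_eq_one_right e, inv_eq_of_mul_eq_one_right haa]) hba
      · exact absurd (mul_eq_left.1 e) hb1
      · exact absurd (mul_eq_right.1 e) ha1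
      · exact e
    have hinvol := (h2cls (sW * φ sW) ((hπeq _ _).1 (by rw [map_mul]; exact hab.symm))).1
    have hcomm : φ sW * sW = sW * φ sW := by
      have h := Involution.inv_eq hinvol
      rw [mul_inv_rev, Involution.inv_eq h1o, Involution.inv_eq hsWo] at h
      exact h
    obtain ⟨-, h4⟩ := card_cent_le hSC ht hHWle (u := ε sW) (by rw [MulEquiv.orderOf_eq]; exact hsWo)
      (fun e => hsne (Subtype.ext (Subtype.ext e)))
    have h4' := h4 (ε (φ sW)) (by rw [← map_mul, ← map_mul, hcomm])
    rcases h4' with e | e | e | e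
    · exact hb1 (by rw [hb, show φ sW = 1 from Subtype.ext (Subtype.ext e), map_one])
    · exact h1t (Subtype.ext (Subtype.ext e))
    · exact hba (congrArg π (show φ sW = sW from Subtype.ext (Subtype.ext e)))
    · refine hba ?_
      rw [hb, show φ sW = tW * sW from Subtype.ext (Subtype.ext e), map_mul, htD, one_mul]

/-- The hom to a group of order two given by a subgroup of index two. -/
noncomputable def sign {X : Type u} [Group X] (M : Subgroup X) (hM : M.index = 2) :
    X →* Multiplicative (ZMod 2) := by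
  classical
  exact
  { toFun := fun a => if a ∈ M then 1 else Multiplicative.ofAdd 1
    map_one' := if_pos M.one_mem
    map_mul' := fun a b => by
      have h := Subgroup.mul_mem_iff_of_index_two hM (a := a) (b := b)
      by_cases ha : a ∈ M <;> by_cases hb : b ∈ M <;> simp only [h, ha, hb, if_true, if_false, iff_self,
        iff_true, iff_false, not_true, not_false_iff, true_iff, false_iff, one_mul, mul_one] <;> rfl }

theorem sign_eq_one {X : Type u} [Group X] {M : Subgroup X} (hM : M.index = 2) {a : X} :
    sign M hM a = 1 ↔ a ∈ M := by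
  classical
  show (if a ∈ M then (1 : Multiplicative (ZMod 2)) else _) = 1 ↔ _
  by_cases ha : a ∈ M
  · simp [ha]
  · rw [if_neg ha]
    exact iff_of_false (by decide) ha

theorem sign_ne_one {X : Type u} [Group X] {M : Subgroup X} (hM : M.index = 2) {a : X} (ha : a ∉ M) :
    sign M hM a = Multiplicative.ofAdd 1 := by
  classical
  exact if_neg ha

theorem pow_sign {k : ℕ} : (Multiplicative.ofAdd (1 : ZMod 2)) ^ k = 1 ↔ Even k := by
  rw [← orderOf_dvd_iff_pow_eq_one, even_iff_two_dvd]
  have : orderOf (Multiplicative.ofAdd (1 : ZMod 2)) = 2 := by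
    refine orderOf_eq_prime ?_ ?_ <;> decide
  rw [this]

/-- Transfer into a subgroup of odd index of a simple group is trivial. -/
theorem transfer_contra [IsSimpleGroup G] (hna : ¬ IsMulCommutative G) {X : Subgroup G} (hX : Odd X.index)
    {M : Subgroup X} (hM : M.index = 2) {c : X} (hc : c ∉ M)
    (key : ∀ (k : ℕ) (a : G) (hm : a * (c : G) ^ k * a⁻¹ ∈ X),
      sign M hM ⟨a * (c : G) ^ k * a⁻¹, hm⟩ = sign M hM c ^ k) : False := by
  have h := TwoFusion.transfer_eq_pow_of_controlled (sign M hM) c key
  rw [sign_ne_one hM hc] at h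
  have hker : (MonoidHom.transfer (sign M hM)).ker = ⊤ := by
    rcases (inferInstance : (MonoidHom.transfer (sign M hM)).ker.Normal).eq_bot_or_eq_top with e | e
    · exfalso
      refine hna ⟨⟨fun a b => (MonoidHom.ker_eq_bot_iff _).1 e ?_⟩⟩
      rw [map_mul, map_mul, mul_comm]
    · exact e
  have h1 : MonoidHom.transfer (sign M hM) (c : G) = 1 := MonoidHom.mem_ker.1 (hker ▸ mem_top _)
  rw [h1, eq_comm, pow_sign] at h
  exact Nat.not_even_iff_odd.2 hX h

/-- The structure theorem. -/
theorem exists_hyp [IsSimpleGroup G] (hna : ¬ IsMulCommutative G) (hSC : SelfCentNC.SC G) :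
    ∃ (t s : G) (K : Subgroup G), BSW.Hyp t s K ∧ ∃ n : ℕ, Nat.card (cent t) = 2 ^ n := by
  classical
  haveI := Fact.mk Nat.prime_two
  have h2 := even_card hna hSC
  obtain ⟨T⟩ : Nonempty (Sylow 2 G) := inferInstance
  have hnc := not_isCyclic_sylow_two hna hSC T
  haveI : Nontrivial T := (Subgroup.nontrivial_iff_ne_bot _).2 (T.ne_bot_of_dvd_card h2)
  haveI := T.2.center_nontrivial
  obtain ⟨k, hk⟩ := IsPGroup.iff_card.1 (T.2.to_subgroup (center T))
  have hk0 : k ≠ 0 := fun h => by
    rw [h, pow_zero] at hk; exact (Finite.one_lt_card (α := center T)).ne' hk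
  obtain ⟨z₀, hz₀⟩ := exists_prime_orderOf_dvd_card' (G := center T) 2 (by rw [hk]; exact dvd_pow_self 2 hk0)
  set t : G := ((z₀ : T) : G) with htdef
  have ht : orderOf t = 2 := by rw [htdef, Subgroup.orderOf_coe, Subgroup.orderOf_coe]; exact hz₀
  have hTle : (T : Subgroup G) ≤ cent t := fun v hv =>
    mem_cent.2 (congrArg Subtype.val (Subgroup.mem_center_iff.1 z₀.2 ⟨v, hv⟩))
  obtain ⟨s, hs, hsT, hst⟩ : ∃ s, orderOf s = 2 ∧ s ∈ (T : Subgroup G) ∧ s ≠ t := by
    by_contra hno
    push Not at hno
    have hto : orderOf (z₀ : T) = 2 := by rw [Subgroup.orderOf_coe]; exact hz₀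
    rcases PGroup.unique_order_p_cases (p := 2) T.2 (fun a b ha hb => by
      have e : ∀ w : T, orderOf w = 2 → w = (z₀ : T) := fun w hw =>
        Subtype.ext (hno w (by rw [Subgroup.orderOf_coe]; exact hw) w.2)
      rcases (Nat.dvd_prime Nat.prime_two).1 (orderOf_dvd_of_pow_eq_one hb) with h | h
      · rw [orderOf_eq_one_iff.1 h]; exact one_mem _
      · rw [e a ha, e b h]; exact mem_zpowers _) with h | ⟨-, n, ⟨e⟩⟩
    · exact hnc h
    rcases n with _ | n
    · haveI : IsCyclic (QuaternionGroup (2 ^ 0)) := QuaternionGroup.quaternionGroup_one_isCyclic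
      exact hnc (isCyclic_of_surjective e.symm e.symm.surjective)
    · have h := S0201.result T n e (fun N hN hodd => by
        rcases hN.eq_bot_or_eq_top with h | h
        · exact h
        · rw [h, card_top] at hodd
          exact absurd (even_iff_two_dvd.2 h2) (Nat.not_even_iff_odd.2 hodd))
      rcases (inferInstance : (center G).Normal).eq_bot_or_eq_top with h' | h'
      · rw [h', card_bot] at h; omega
      · exact hna ⟨⟨fun a b => (Subgroup.mem_center_iff.1 (h' ▸ mem_top b : b ∈ center G) a)⟩⟩
  have hsC : s ∈ cent t := hTle hsT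
  have hX2 : IsPGroup 2 (cent t) := isPGroup_cent hSC ht hs hst (mem_cent.1 hsC)
  have hXT : cent t = (T : Subgroup G) := T.3 hX2 hTle
  have hXodd : Odd (cent t).index := by
    rw [hXT, ← Nat.not_even_iff_odd, even_iff_two_dvd]
    exact T.not_dvd_index
  set X := cent t with hX
  set tX : X := ⟨t, mem_cent.2 rfl⟩ with htX
  set sX : X := ⟨s, hsC⟩ with hsX
  have hsXo : orderOf sX = 2 := by rw [← Subgroup.orderOf_coe]; exact hs
  obtain ⟨hidx, hsD, hscls⟩ := two_group_class hSC ht (le_refl X) hX2 (mem_cent.2 rfl) (u := sX) hsXo hst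
  obtain ⟨-, hsfour⟩ := card_cent_le hSC ht (le_refl X) (u := sX) hsXo hst
  obtain ⟨n, hn⟩ := IsPGroup.iff_card.1 hX2
  -- a cyclic subgroup of index two
  obtain ⟨K, hKc, hK2, htK⟩ : ∃ K : Subgroup X, IsCyclic K ∧ K.index = 2 ∧ tX ∈ K := by
    by_cases h4 : Nat.card X = 4
    · refine ⟨zpowers tX, inferInstance, ?_, mem_zpowers _⟩
      have := (zpowers tX).card_mul_index
      rw [Nat.card_zpowers, ← Subgroup.orderOf_coe, ht, h4] at this
      omega
    have hn3 : 3 ≤ n := by
      have h := (_root_.commutator X).index_dvd_card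
      rw [hidx, hn] at h
      have h' : 2 ≤ n := (Nat.pow_dvd_pow_iff_le_right (x := 2) (by norm_num)).1 (by simpa using h)
      rcases h'.lt_or_eq with e | e
      · exact e
      · exact absurd (by rw [hn, ← e]; norm_num) h4
    obtain ⟨a, ha⟩ := PGroup.cyclic_index_two_of_card_ab n X hn3 hn hidx
    refine ⟨zpowers a, inferInstance, ha, ?_⟩
    haveI := normal_of_index_eq_two ha
    have hne : 2 ∣ Nat.card (zpowers a) := by
      have := (zpowers a).card_mul_index
      rw [ha, hn] at this
      obtain ⟨j, rfl⟩ : ∃ j, n = j + 2 := ⟨n - 2, by omega⟩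
      exact ⟨2 ^ j, by rw [pow_add] at this; omega⟩
    obtain ⟨⟨z, hzmem⟩, hz⟩ := exists_prime_orderOf_dvd_card' (G := zpowers a) 2 hne
    rw [Subgroup.orderOf_mk] at hz
    have hzc : ∀ g : X, g * z = z * g := by
      intro g
      have h1 : g * z * g⁻¹ ∈ zpowers a := Subgroup.Normal.conj_mem inferInstance z hzmem g
      have h2 : g * z * g⁻¹ = z := by
        by_contra hne'
        exact not_isCyclic_two_invol h1 hzmem (by rw [Involution.orderOf_conj]; exact hz) hz hne'
          inferInstance
      exact mul_inv_eq_iff_eq_mul.1 h2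
    have hscard : Nat.card (cent sX) < Nat.card X := by
      refine lt_of_le_of_lt (card_cent_le hSC ht (le_refl X) hsXo hst).1 ?_
      rw [hn]
      exact Nat.pow_lt_pow_right (by norm_num) (by omega)
    have hsnc : ∀ g : X, (∀ h : X, h * g = g * h) → g ≠ sX ∧ g ≠ tX * sX := by
      intro g hg
      have hcs : ∀ h : X, h * tX = tX * h := fun h => Subtype.ext (mem_cent.1 h.2)
      constructor <;> rintro rfl <;> refine hscard.not_ge ?_
      · exact Nat.card_le_card_of_injective (fun h : X => (⟨h, mem_cent.2 (hg h)⟩ : cent sX))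
          (fun a b e => congrArg Subtype.val e :)
      · refine Nat.card_le_card_of_injective (fun h : X => (⟨h, mem_cent.2 ?_⟩ : cent sX))
          (fun a b e => congrArg Subtype.val e :)
        have := hg h
        rw [← mul_assoc, hcs, mul_assoc, mul_assoc] at this
        exact mul_left_cancel this
    rcases hsfour z (hzc sX).symm with e | e | e | e
    · exact absurd (Subtype.ext e : z = 1) (Involution.ne_one hz)
    · have : z = tX := Subtype.ext e
      exact this ▸ hzmem
    · exact absurd (Subtype.ext e : z = sX) (hsnc z hzc).1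
    · exact absurd (Subtype.ext e : z = tX * sX) (hsnc z hzc).2
  haveI := normal_of_index_eq_two hK2
  have hKu : ∀ v ∈ K, orderOf v = 2 → v = tX := by
    intro v hv ho
    by_contra hne
    exact not_isCyclic_two_invol htK hv (by rw [← Subgroup.orderOf_coe]; exact ht) ho (Ne.symm hne) hKc
  have hsK : sX ∉ K := fun h => hst (congrArg Subtype.val (hKu sX h hsXo))
  have hKcomm : ∀ a ∈ K, ∀ b ∈ K, a * b = b * a := fun a ha b hb =>
    congrArg Subtype.val ((IsCyclic.isMulCommutative (α := K)).is_comm.comm ⟨a, ha⟩ ⟨b, hb⟩)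
  have hout : ∀ a b : X, a ∉ K → b ∉ K → a * b ∈ K := fun a b ha hb =>
    (Subgroup.mul_mem_iff_of_index_two hK2).2 (iff_of_false ha hb)
  have hKs : ∀ w ∈ K, w * sX = sX * w → w = 1 ∨ w = tX := by
    intro w hw hc
    rcases hsfour w hc with e | e | e | e
    · exact Or.inl (Subtype.ext e)
    · exact Or.inr (Subtype.ext e)
    · exact absurd ((show w = sX from Subtype.ext e) ▸ hw) hsK
    · exact absurd ((Subgroup.mul_mem_cancel_left K htK).1 ((show w = tX * sX from Subtype.ext e) ▸ hw)) hsK
  have hsq : ∀ c, c ∉ K → c * c = 1 ∨ c * c = tX := by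
    intro c hc
    have hcc := hout c c hc hc
    refine hKs _ hcc ?_
    have hk : sX * c ∈ K := hout _ _ hsK hc
    have h1 := hKcomm _ hcc _ hk
    have h2 : c * c * c = c * (c * c) := mul_assoc c c c
    have e : sX = sX * c * c⁻¹ := by group
    rw [e]
    calc c * c * (sX * c * c⁻¹) = c * c * (sX * c) * c⁻¹ := by group
      _ = sX * c * (c * c) * c⁻¹ := by rw [h1]
      _ = sX * c * c⁻¹ * (c * c) := by group
  have hinvall : ∀ c, c ∉ K → orderOf c = 2 := by
    intro c hcK
    have hc1 : c ≠ 1 := fun e => hcK (e ▸ one_mem _)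
    rcases hsq c hcK with h | h
    · exact Involution.orderOf_of_sq h hc1
    exfalso
    set D := _root_.commutator X with hD
    haveI : IsCyclic K := hKc
    have hDK : D ≤ K := by
      rw [hD, _root_.commutator_def, Subgroup.commutator_le]
      intro a _ b _
      rw [commutatorElement_def]
      have h1 := Subgroup.mul_mem_iff_of_index_two hK2 (a := a * b * a⁻¹) (b := b⁻¹)
      rw [h1, Subgroup.inv_mem_iff]
      constructor
      · intro h; simpa [mul_assoc] using (inferInstance : K.Normal).conj_mem _ h a⁻¹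
      · intro h; exact (inferInstance : K.Normal).conj_mem _ h a
    have hcD : c ∉ D := fun h => hcK (hDK h)
    have hsc : sX⁻¹ * c ∉ D := fun h' => by
      have := Involution.orderOf_eq_of_isConj (hscls c h').1
      rw [hsXo] at this
      rw [Involution.mul_self this.symm] at h
      exact Involution.ne_one (show orderOf tX = 2 by rw [← Subgroup.orderOf_coe]; exact ht) h.symm
    set M : Subgroup X := D ⊔ zpowers sX with hM
    have hMmem : ∀ a, a ∈ M ↔ a ∈ D ∨ sX⁻¹ * a ∈ D := by
      intro a
      constructor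
      · intro ha
        obtain ⟨d, hd, w, hw, rfl⟩ := Subgroup.mem_sup_of_normal_left.1 ha
        obtain ⟨k, hk⟩ := mem_powers_iff_mem_zpowers.2 hw
        simp only at hk
        rw [← hk, ← pow_mod_orderOf, hsXo]
        rcases Nat.mod_two_eq_zero_or_one k with e | e <;> rw [e]
        · left; rw [pow_zero, mul_one]; exact hd
        · right
          rw [pow_one]
          simpa [mul_assoc] using (inferInstance : D.Normal).conj_mem d hd sX⁻¹
      · rintro (h | h)
        · exact mem_sup_left h
        · rw [show a = sX * (sX⁻¹ * a) by group]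
          exact mul_mem (mem_sup_right (mem_zpowers _)) (mem_sup_left h)
    have hMi : M.index = 2 := by
      have h1 := Subgroup.relIndex_mul_index (le_sup_left : D ≤ M)
      rw [hidx] at h1
      have hne1 : D.relIndex M ≠ 1 := fun e => hsD ((Subgroup.relIndex_eq_one.1 e) (mem_sup_right (mem_zpowers _)))
      have hne4 : M.index ≠ 1 := fun e => by
        have := (hMmem c).1 (by rw [Subgroup.index_eq_one.1 e]; exact mem_top _)
        rcases this with h' | h'
        · exact hcD h'
        · exact hsc h'
      have hdvd : M.index ∣ 2 ^ 2 := ⟨D.relIndex M, by rw [mul_comm]; exact h1.symm⟩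
      obtain ⟨i, hi, he⟩ := (Nat.dvd_prime_pow Nat.prime_two).1 hdvd
      interval_cases i <;> simp_all
    have hcM : c ∉ M := fun h' => ((hMmem c).1 h').elim hcD hsc
    -- all involutions lie in `M`
    have hDt : tX ∈ D := by
      rcases eq_or_ne D ⊥ with e | e
      · exfalso
        rw [e, Subgroup.index_bot] at hidx
        have h2 := hsfour c (by
          haveI : IsMulCommutative X := ⟨⟨fun a b => by
            have h3 : ⁅a, b⁆ ∈ D := by rw [hD, _root_.commutator_def]; exact commutator_mem_commutator (mem_top _) (mem_top _)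
            rw [e, Subgroup.mem_bot, commutatorElement_eq_one_iff_commute] at h3
            exact h3.eq⟩⟩
          exact (IsMulCommutative.is_comm.comm c sX))
        rcases h2 with e' | e' | e' | e'
        · exact hc1 (Subtype.ext e')
        · exact hcK ((show c = tX from Subtype.ext e') ▸ htK)
        · exact hsc (by rw [show c = sX from Subtype.ext e', inv_mul_cancel]; exact one_mem _)
        · rw [show c = tX * sX from Subtype.ext e'] at h
          have : tX * sX * (tX * sX) = 1 := by
            have hts : sX * tX = tX * sX := Subtype.ext (mem_cent.1 hsC)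
            calc tX * sX * (tX * sX) = tX * (sX * tX) * sX := by group
              _ = (tX * tX) * (sX * sX) := by rw [hts]; group
              _ = 1 := by
                rw [Involution.mul_self hsXo, Involution.mul_self (show orderOf tX = 2 by
                  rw [← Subgroup.orderOf_coe]; exact ht), mul_one]
          exact Involution.ne_one (show orderOf tX = 2 by rw [← Subgroup.orderOf_coe]; exact ht)
            (h.symm.trans this)
      · haveI : Nontrivial D := (Subgroup.nontrivial_iff_ne_bot _).2 e
        obtain ⟨i, hi⟩ := IsPGroup.iff_card.1 (hX2.to_subgroup D)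
        have hi0 : i ≠ 0 := fun h' => by
          rw [h', pow_zero] at hi; exact (Finite.one_lt_card (α := D)).ne' hi
        obtain ⟨⟨v, hvD⟩, hv⟩ := exists_prime_orderOf_dvd_card' (G := D) 2 (by rw [hi]; exact dvd_pow_self 2 hi0)
        rw [Subgroup.orderOf_mk] at hv
        exact (hKu v (hDK hvD) hv) ▸ hvD
    have hinvM : ∀ v : X, v * v = 1 → v ∈ M := by
      intro v hv
      rcases eq_or_ne v 1 with rfl | hv1
      · exact one_mem _
      have hvo := Involution.orderOf_of_sq hv hv1
      by_cases hvK : v ∈ K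
      · exact mem_sup_left ((hKu v hvK hvo) ▸ hDt)
      by_contra hvM
      -- `v` and `c` lie in the same coset of `D`
      have hDK2 : (D.subgroupOf K).index = 2 := by
        have h1 := Subgroup.relIndex_mul_index hDK
        rw [hidx, hK2] at h1
        show D.relIndex K = 2
        omega
      have key : ∀ a b : X, a ∈ K → b ∈ K → a ∉ D → b ∉ D → a * b ∈ D := fun a b ha hb ha' hb' => by
        have := (Subgroup.mul_mem_iff_of_index_two hDK2 (a := ⟨a, ha⟩) (b := ⟨b, hb⟩)).2
          (by simp [mem_subgroupOf, ha', hb'])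
        simpa [mem_subgroupOf] using this
      have hvinv : v⁻¹ = v := Involution.inv_eq hvo
      by_cases hvc : v⁻¹ * c ∈ D
      · obtain ⟨-, -, hvcls⟩ := two_group_class hSC ht (le_refl X) hX2 (mem_cent.2 rfl) (u := v) hvo
          (fun e => hvK ((show v = tX from Subtype.ext e) ▸ htK))
        have := Involution.orderOf_eq_of_isConj (hvcls c hvc).1
        rw [hvo] at this
        rw [Involution.mul_self this.symm] at h
        exact Involution.ne_one (show orderOf tX = 2 by rw [← Subgroup.orderOf_coe]; exact ht) h.symm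
      · have hsinv : sX⁻¹ = sX := Involution.inv_eq hsXo
        have h3 := key (v⁻¹ * c) ((sX⁻¹ * c)⁻¹) (hvinv.symm ▸ hout v c hvK hcK)
          (inv_mem (hsinv.symm ▸ hout sX c hsK hcK)) hvc (fun h' => hsc (by simpa using inv_mem h'))
        refine hvM ((hMmem v).2 (Or.inr ?_))
        have e : sX⁻¹ * v = (v⁻¹ * c * (sX⁻¹ * c)⁻¹)⁻¹ := by group
        rw [e]
        exact inv_mem h3
    refine transfer_contra hna hXodd hMi hcM (fun k a hm => ?_)
    rw [sign_ne_one hMi hcM]
    have hc4 : (c : G) * c = t := congrArg Subtype.val h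
    have htt : t * t = 1 := Involution.mul_self ht
    rcases Nat.even_or_odd k with hev | hod
    · rw [pow_sign.2 hev, sign_eq_one]
      refine hinvM _ (Subtype.ext ?_)
      obtain ⟨j, rfl⟩ := hev
      show a * (c : G) ^ (j + j) * a⁻¹ * (a * (c : G) ^ (j + j) * a⁻¹) = 1
      have e : (c : G) ^ (j + j) = t ^ j := by rw [← two_mul, pow_mul, sq, hc4]
      rw [e]
      calc a * t ^ j * a⁻¹ * (a * t ^ j * a⁻¹) = a * (t ^ j * t ^ j) * a⁻¹ := by group
        _ = 1 := by rw [← pow_add, ← two_mul, pow_mul, sq, htt, one_pow, mul_one, mul_inv_cancel]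
    · obtain ⟨j, rfl⟩ := hod
      -- the conjugate has the same square, so `a` centralizes `t`
      set hh : X := ⟨a * (c : G) ^ (2 * j + 1) * a⁻¹, hm⟩ with hhh
      have e : (c : G) ^ (2 * j + 1) * (c : G) ^ (2 * j + 1) = t := by
        rw [← pow_add, show 2 * j + 1 + (2 * j + 1) = 2 * (2 * j + 1) by ring, pow_mul, sq, hc4,
          pow_succ, pow_mul, sq, htt, one_pow, one_mul]
      have hsq' : (hh : G) * hh = a * t * a⁻¹ := by
        rw [← e, hhh]; group
      have ha : a ∈ X := by
        have hne : hh * hh ≠ 1 := fun e' => by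
          have h5 := congrArg Subtype.val e'
          simp only [Subgroup.coe_mul, Subgroup.coe_one] at h5
          rw [hsq', conj_eq_one_iff] at h5
          exact Involution.ne_one ht h5
        have h6 : hh * hh = tX := by
          by_cases hK' : hh ∈ K
          · exact hKu _ (mul_mem hK' hK') (Involution.orderOf_of_sq (Subtype.ext (by
              simp only [Subgroup.coe_mul, Subgroup.coe_one]
              rw [← mul_assoc, mul_assoc ((hh : G) * hh), hsq']
              calc a * t * a⁻¹ * (a * t * a⁻¹) = a * (t * t) * a⁻¹ := by group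
                _ = 1 := by rw [htt, mul_one, mul_inv_cancel])) hne)
          · exact (hsq hh hK').resolve_left hne
        have h7 := congrArg Subtype.val h6
        simp only [Subgroup.coe_mul] at h7
        rw [hsq'] at h7
        exact mem_cent.2 (mul_inv_eq_iff_eq_mul.1 h7)
      have h8 : hh = ⟨a, ha⟩ * c ^ (2 * j + 1) * ⟨a, ha⟩⁻¹ := Subtype.ext (by simp [hhh])
      rw [h8, map_mul, map_mul, map_inv, map_pow, mul_comm, inv_mul_cancel_left, sign_ne_one hMi hcM]
  -- one class of involutions
  have hconj : ∀ v : G, orderOf v = 2 → IsConj t v := by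
    intro v hv
    obtain ⟨Q, hQ⟩ := (IsPGroup.of_card (p := 2) (G := zpowers v) (n := 1)
      (by rw [Nat.card_zpowers, hv, pow_one])).exists_le_sylow
    obtain ⟨g, hg⟩ := MulAction.exists_smul_eq G Q T
    have hv' : g * v * g⁻¹ ∈ X := by
      rw [hXT, ← hg, Sylow.coe_subgroup_smul, Subgroup.mem_pointwise_smul_iff_inv_smul_mem, ← map_inv,
        MulAut.smul_def, MulAut.conj_apply]
      simpa [mul_assoc] using hQ (mem_zpowers v)
    refine IsConj.trans ?_ (isConj_iff.2 ⟨g, rfl⟩).symm
    set vX : X := ⟨g * v * g⁻¹, hv'⟩ with hvX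
    have hvXo : orderOf vX = 2 := by rw [← Subgroup.orderOf_coe]; exact (Involution.orderOf_conj g v).trans hv
    by_cases hvK : vX ∈ K
    · rw [show g * v * g⁻¹ = t from congrArg Subtype.val (hKu vX hvK hvXo)]
    by_contra hn
    refine transfer_contra hna hXodd hK2 hvK (fun k a hm => ?_)
    rw [sign_ne_one hK2 hvK]
    have hsq1 : ((vX : X) : G) * vX = 1 := Involution.mul_self ((Involution.orderOf_conj g v).trans hv)
    rcases Nat.even_or_odd k with hev | hod
    · rw [pow_sign.2 hev, sign_eq_one]
      obtain ⟨j, rfl⟩ := hev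
      have e : (⟨a * (vX : G) ^ (j + j) * a⁻¹, hm⟩ : X) = 1 := Subtype.ext (by
        show a * (vX : G) ^ (j + j) * a⁻¹ = 1
        rw [← two_mul, pow_mul, sq, hsq1, one_pow, mul_one, mul_inv_cancel])
      rw [e]; exact one_mem _
    · obtain ⟨j, rfl⟩ := hod
      have hpow : (vX : G) ^ (2 * j + 1) = (vX : G) := by
        rw [pow_succ, pow_mul, sq, hsq1, one_pow, one_mul]
      rw [show (Multiplicative.ofAdd (1 : ZMod 2)) ^ (2 * j + 1) = Multiplicative.ofAdd 1 by
        rw [pow_succ, pow_mul,
          show (Multiplicative.ofAdd (1 : ZMod 2)) ^ 2 = 1 from pow_sign.2 even_two, one_pow, one_mul]]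
      refine sign_ne_one hK2 fun hmem => hn ?_
      have ho : orderOf (⟨a * (vX : G) ^ (2 * j + 1) * a⁻¹, hm⟩ : X) = 2 := by
        rw [← Subgroup.orderOf_coe]
        show orderOf (a * (vX : G) ^ (2 * j + 1) * a⁻¹) = 2
        rw [hpow, Involution.orderOf_conj]
        exact (Involution.orderOf_conj g v).trans hv
      have e' : a * (vX : G) ^ (2 * j + 1) * a⁻¹ = t := congrArg Subtype.val (hKu _ hmem ho)
      rw [hpow] at e'
      exact (isConj_iff.2 ⟨a, e'⟩).symm
  -- the hypotheses of Brauer, Suzuki and Wall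
  refine ⟨t, s, K.map X.subtype, ?_, n, hn⟩
  have hmemK : ∀ v : G, v ∈ K.map X.subtype → ∃ w ∈ K, (w : G) = v := fun v hv => hv
  exact
  { ht := ht
    hs := hs
    comm := fun a ha b hb => by
      obtain ⟨a', ha', rfl⟩ := hmemK a ha
      obtain ⟨b', hb', rfl⟩ := hmemK b hb
      exact congrArg Subtype.val (hKcomm a' ha' b' hb')
    le_cent := map_subtype_le K
    t_mem := ⟨tX, htK, rfl⟩
    s_mem := hsC
    s_not := fun h => by
      obtain ⟨w, hw, e⟩ := hmemK s h
      exact hsK ((show w = sX from Subtype.ext e) ▸ hw)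
    cent_le := fun v hv => by
      by_cases hK' : (⟨v, hv⟩ : X) ∈ K
      · exact mem_sup_left ⟨⟨v, hv⟩, hK', rfl⟩
      · have e : v = s⁻¹ * (s * v) := by group
        rw [e]
        exact mul_mem (mem_sup_right (inv_mem (mem_zpowers s)))
          (mem_sup_left ⟨sX * ⟨v, hv⟩, hout _ _ hsK hK', rfl⟩)
    fix := fun v hv hc => by
      obtain ⟨w, hw, rfl⟩ := hmemK v hv
      rcases hKs w hw (Subtype.ext hc.symm) with rfl | rfl
      · exact Or.inl rfl
      · exact Or.inr rfl
    inv := fun v hv => by
      obtain ⟨w, hw, rfl⟩ := hmemK v hv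
      have h := Involution.mul_self (hinvall (sX * w) fun h => hsK ((Subgroup.mul_mem_cancel_right K hw).1 h))
      have h' : s * (w : G) * (s * w) = 1 := congrArg Subtype.val h
      rw [Involution.inv_eq hs]
      calc s * (w : G) * s = (s * w * (s * w)) * (w : G)⁻¹ := by group
        _ = (w : G)⁻¹ := by rw [h', one_mul]
    ti := fun g v hv hv1 hgv => by
      obtain ⟨w, hw, rfl⟩ := hmemK v hv
      obtain ⟨w', hw', he⟩ := hmemK _ hgv
      obtain ⟨i, hi⟩ := IsPGroup.iff_orderOf.1 hX2 w
      have hi0 : i ≠ 0 := fun e => hv1 (by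
        rw [e, pow_zero, orderOf_eq_one_iff] at hi; rw [hi]; rfl)
      have hwt : w ^ (orderOf w / 2) = tX := hKu _ (pow_mem hw _)
        (orderOf_pow_orderOf_div (orderOf_pos w).ne' (by rw [hi]; exact dvd_pow_self 2 hi0))
      have hw't : w' ^ (orderOf w / 2) = tX := by
        refine hKu _ (pow_mem hw' _) ?_
        rw [← Subgroup.orderOf_coe, SubmonoidClass.coe_pow, he, conj_pow, Involution.orderOf_conj,
          ← SubmonoidClass.coe_pow, hwt]
        exact ht
      have h9 := congrArg Subtype.val hw't
      rw [SubmonoidClass.coe_pow, he, conj_pow, ← SubmonoidClass.coe_pow, hwt] at h9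
      exact mem_cent.2 (mul_inv_eq_iff_eq_mul.1 h9)
    all_conj := fun u v hu hv => (hconj u hu).symm.trans (hconj v hv) }

end Cfsg.Agent.SelfCentSimple
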