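import Cfsg.Agent.Lib.OrderSpec.Counting
import Cfsg.Agent.Lib.SelfCentNC.Basic
import Cfsg.Agent.Lib.PGroup.MaximalClass
import Cfsg.Agent.Lib.PGroup.UniqueOrderP
import Cfsg.Agent.Lib.Transfer.Alperin

/-!
# Groups whose non-cyclic subgroups are self-centralizing: tools

* `mem_of_noncyclic` : a non-cyclic subgroup of a centralizer contains the centralized element.
* `exists_pair` : two independent commuting elements of order `p` span their common centralizer.
* `class_eq_coset` : a class of maximal size in a p-group is a coset of the derived subgroup.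
* `cyclic_fixed` : coprime action on a cyclic p-group for the smallest prime is trivial.
-/

set_option autoImplicit false
set_option linter.style.haveILetI false

namespace Cfsg.Agent.SelfCentSimple

open Subgroup
open Cfsg.Agent.BSW (cent mem_cent)
open scoped commutatorElement

universe u

variable {G : Type u} [Group G]

theorem not_isCyclic_of_not_commute {H : Subgroup G} {a b : G} (ha : a ∈ H) (hb : b ∈ H)
    (h : a * b ≠ b * a) : ¬ IsCyclic H := fun _ =>
  h (congrArg Subtype.val ((IsCyclic.isMulCommutative (α := H)).is_comm.comm ⟨a, ha⟩ ⟨b, hb⟩))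

variable (hSC : SelfCentNC.SC G)
include hSC

theorem mem_of_noncyclic {H : Subgroup G} (hH : ¬ IsCyclic H) {x : G} (hHx : H ≤ cent x) : x ∈ H :=
  hSC H hH (mem_centralizer_iff.2 fun _h hh => mem_cent.1 (hHx hh))

/-- Two independent commuting elements of order `p`. -/
theorem exists_pair [Finite G] {p : ℕ} [Fact p.Prime] {z v : G} (hz : orderOf z = p)
    (hv : orderOf v = p) (hc : Commute z v) (hvz : v ∉ zpowers z) :
    ∃ V : Subgroup G, Nat.card V = p ^ 2 ∧ ¬ IsCyclic V ∧ z ∈ V ∧ v ∈ V ∧
      (∀ w, Commute w z → Commute w v → w ∈ V) ∧ (∀ w ∈ V, w ^ p = 1) := by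
  have hp : p.Prime := Fact.out
  have hzc : Nat.card (zpowers z) = p := by rw [Nat.card_zpowers, hz]
  have hvc : Nat.card (zpowers v) = p := by rw [Nat.card_zpowers, hv]
  have comm : ∀ (a : zpowers z) (b : zpowers v),
      Commute ((zpowers z).subtype a) ((zpowers v).subtype b) := by
    rintro ⟨-, i, rfl⟩ ⟨-, j, rfl⟩
    exact hc.zpow_zpow i j
  set f := MonoidHom.noncommCoprod (zpowers z).subtype (zpowers v).subtype comm with hf
  have hinj : Function.Injective f := by
    rw [injective_iff_map_eq_one]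
    rintro ⟨⟨a, ha⟩, ⟨b, hb⟩⟩ h
    have h' : a * b = 1 := h
    have hb' : b ∈ zpowers z := by rw [eq_inv_of_mul_eq_one_right h']; exact inv_mem ha
    have hb1 : b = 1 := by
      by_contra hb1
      refine hvz ?_
      obtain ⟨j, rfl⟩ := hb
      have hvo : orderOf (v ^ j) = p := by
        rcases (Nat.dvd_prime hp).1 (hvc ▸ Subgroup.orderOf_dvd_natCard _ (zpow_mem (mem_zpowers v) j)) with e | e
        · exact absurd (orderOf_eq_one_iff.1 e) hb1
        · exact e
      have heq : zpowers (v ^ j) = zpowers v :=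
        eq_of_le_of_card_ge (zpowers_le.2 (zpow_mem (mem_zpowers v) j))
          (by rw [hvc, Nat.card_zpowers, hvo])
      exact zpowers_le.1 (heq ▸ zpowers_le.2 hb')
    subst hb1
    rw [mul_one] at h'
    subst h'
    rfl
  have hzf : z ∈ f.range := MonoidHom.mem_range.2 ⟨(⟨z, mem_zpowers z⟩, 1), by simp [hf]⟩
  have hvf : v ∈ f.range := MonoidHom.mem_range.2 ⟨(1, ⟨v, mem_zpowers v⟩), by simp [hf]⟩
  refine ⟨f.range, ?_, ?_, hzf, hvf, ?_, ?_⟩
  · rw [← Nat.card_congr (MonoidHom.ofInjective hinj).toEquiv, Nat.card_prod, hzc, hvc, sq]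
  · intro hcyc
    exact hvz (PGroup.mem_zpowers_of_isCyclic hcyc
      hzf hvf hz
      (orderOf_dvd_iff_pow_eq_one.1 hv.dvd))
  · intro w hwz hwv
    refine mem_of_noncyclic hSC (fun hcyc => hvz (PGroup.mem_zpowers_of_isCyclic hcyc
      hzf hvf hz
      (orderOf_dvd_iff_pow_eq_one.1 hv.dvd))) ?_
    rintro _ ⟨⟨⟨-, i, rfl⟩, ⟨-, j, rfl⟩⟩, rfl⟩
    refine mem_cent.2 ?_
    show z ^ i * v ^ j * w = w * (z ^ i * v ^ j)
    exact ((hwz.zpow_right i).mul_right (hwv.zpow_right j)).eq.symm
  · rintro _ ⟨⟨⟨-, i, rfl⟩, ⟨-, j, rfl⟩⟩, rfl⟩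
    show (z ^ i * v ^ j) ^ p = 1
    rw [(hc.zpow_zpow i j).mul_pow, ← zpow_natCast, ← zpow_natCast, zpow_comm, zpow_natCast,
      ← hz, pow_orderOf_eq_one, one_zpow, one_mul, zpow_comm, zpow_natCast, hz, ← hv,
      pow_orderOf_eq_one, one_zpow]

omit hSC

/-- A class of maximal size is a coset of the derived subgroup. -/
theorem class_eq_coset {Q : Type u} [Group Q] [Finite Q] {p : ℕ} [Fact p.Prime] (hQ : IsPGroup p Q)
    (hnc : ¬ IsCyclic Q) {v : Q} (hC : Nat.card (cent v) ≤ p ^ 2) :
    (_root_.commutator Q).index = p ^ 2 ∧ ∀ w, v⁻¹ * w ∈ _root_.commutator Q → IsConj v w := by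
  classical
  set D := _root_.commutator Q with hD
  have hp : p.Prime := Fact.out
  have hge : p ^ 2 ≤ D.index := by
    by_cases hb : D = ⊥
    · rw [hb, Subgroup.index_bot]
      obtain ⟨k, hk⟩ := IsPGroup.iff_card.1 hQ
      rw [hk]
      refine Nat.pow_le_pow_right hp.pos ?_
      by_contra hlt
      rcases (by omega : k = 0 ∨ k = 1) with rfl | rfl
      · rw [pow_zero] at hk
        haveI : Subsingleton Q := (Nat.card_eq_one_iff_unique.1 hk).1
        exact hnc inferInstance
      · exact hnc (isCyclic_of_prime_card (p := p) (by simpa using hk))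
    · exact PGroup.index_commutator_ge hQ hb
  have hsub : (Set.range fun g : Q => g * v * g⁻¹) ⊆ (fun d => v * d) '' (D : Set Q) := by
    rintro w ⟨g, rfl⟩
    refine ⟨v⁻¹ * (g * v * g⁻¹), ?_, mul_inv_cancel_left v _⟩
    have : v⁻¹ * (g * v * g⁻¹) = ⁅v⁻¹, g⁆ := by rw [commutatorElement_def]; group
    rw [this, hD, _root_.commutator_def]
    exact commutator_mem_commutator (mem_top _) (mem_top _)
  have hcardD : ((fun d => v * d) '' (D : Set Q)).ncard = Nat.card D := by
    rw [Set.ncard_image_of_injective _ (mul_right_injective v), ← Nat.card_coe_set_eq]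
    rfl
  have h1 := Set.ncard_le_ncard hsub (Set.toFinite _)
  rw [hcardD, OrderSpec.ncard_class] at h1
  have h2 : (cent v).index * Nat.card (cent v) = D.index * Nat.card D := by
    rw [Subgroup.index_mul_card, Subgroup.index_mul_card]
  have hDpos : 0 < Nat.card D := Nat.card_pos
  have h3 : (cent v).index * Nat.card (cent v) ≤ Nat.card D * p ^ 2 := Nat.mul_le_mul h1 hC
  have hidx : D.index = p ^ 2 := by
    refine le_antisymm (Nat.le_of_mul_le_mul_right ?_ hDpos) hge
    rw [← h2, mul_comm (p ^ 2)]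
    exact h3
  refine ⟨hidx, fun w hw => ?_⟩
  have h4 : Nat.card D ≤ (cent v).index := by
    refine Nat.le_of_mul_le_mul_right ?_ (Nat.card_pos (α := cent v))
    rw [h2, hidx, mul_comm (p ^ 2)]
    exact Nat.mul_le_mul_left _ hC
  have heq := Set.eq_of_subset_of_ncard_le hsub (by rw [hcardD, OrderSpec.ncard_class]; exact h4)
    (Set.toFinite _)
  obtain ⟨g, hg⟩ : w ∈ Set.range fun g : Q => g * v * g⁻¹ := by
    rw [heq]; exact ⟨_, hw, mul_inv_cancel_left v w⟩
  exact isConj_iff.2 ⟨g, hg⟩

/-- An element whose order is prime to `p (p - 1)` centralizes a cyclic `p`-group it normalizes. -/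
theorem cyclic_fixed [Finite G] {p : ℕ} [Fact p.Prime] {R : Subgroup G} (hR : IsPGroup p R)
    (hcyc : IsCyclic R) {n : G} (hn : n ∈ normalizer (R : Set G))
    (hco : Nat.Coprime (orderOf n) (p * (p - 1))) : n ∈ centralizer (R : Set G) := by
  obtain ⟨g, hg⟩ := IsCyclic.exists_generator (α := R)
  set e : MulAut R := R.normalizerMonoidHom ⟨n, hn⟩ with he
  have h1 : orderOf e ∣ orderOf n := by
    rw [he, ← Subgroup.orderOf_mk (H := normalizer (R : Set G)) n hn]
    exact orderOf_map_dvd _ _
  obtain ⟨k, hk⟩ := IsPGroup.iff_card.1 hR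
  have h2 : orderOf e ∣ (Nat.card R).totient := by
    rw [← IsCyclic.card_mulAut]
    exact orderOf_dvd_natCard e
  have he1 : e = 1 := by
    refine orderOf_eq_one_iff.1 (Nat.eq_one_of_dvd_coprimes ?_ h1 (h2.trans (dvd_of_eq (by rw [hk]))))
    rcases k with _ | k
    · simp
    rw [Nat.totient_prime_pow_succ Fact.out]
    rw [Nat.coprime_mul_iff_right] at hco ⊢
    exact ⟨Nat.Coprime.pow_right k hco.1, hco.2⟩
  rw [mem_centralizer_iff]
  intro w hw
  have h3 : ((e ⟨w, hw⟩ : R) : G) = w := by rw [he1]; rfl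
  rw [he] at h3
  have h4 : n * w * n⁻¹ = w := h3
  exact (mul_inv_eq_iff_eq_mul.1 h4).symm

/-- A finite simple non-abelian group has no normal `p`-complement for a prime `p` dividing its order. -/
theorem not_complement [Finite G] [IsSimpleGroup G] (hna : ¬ IsMulCommutative G) {p : ℕ} [Fact p.Prime]
    (hp : p ∣ Nat.card G) : ¬ Cfsg.HasNormalPComplement p G := by
  rintro ⟨P, N, hN, hc⟩
  have h := hc.card_mul_card
  rcases hN.eq_bot_or_eq_top with e | e
  · rw [e, card_bot, one_mul] at h
    have hG : IsPGroup p G := by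
      obtain ⟨k, hk⟩ := IsPGroup.iff_card.1 P.2
      exact IsPGroup.of_card (h.symm.trans hk)
    haveI := IsSimpleGroup.toNontrivial (G := G)
    haveI := hG.center_nontrivial
    rcases (inferInstance : (center G).Normal).eq_bot_or_eq_top with e' | e'
    · exact (Subgroup.nontrivial_iff_ne_bot _).1 inferInstance e'
    · exact hna ⟨⟨fun a b => (Subgroup.mem_center_iff.1 (e' ▸ mem_top b : b ∈ center G) a)⟩⟩
  · rw [e, card_top] at h
    have h1 : Nat.card (P : Subgroup G) = 1 := by
      have hpos : 0 < Nat.card G := Nat.card_pos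
      exact Nat.eq_of_mul_eq_mul_left hpos (h.trans (mul_one _).symm)
    exact P.ne_bot_of_dvd_card hp (Subgroup.card_eq_one.1 h1)

end Cfsg.Agent.SelfCentSimple
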