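import Cfsg.Agent.Lib.SelfCentSimple.Basic

/-!
# The smallest prime in a group with self-centralizing non-cyclic subgroups

* `even_card` : such a simple group has even order.
* `not_isCyclic_sylow_two` : its Sylow 2-subgroups are not cyclic.
-/

set_option autoImplicit false
set_option linter.style.haveILetI false
set_option linter.unusedSectionVars false

namespace Cfsg.Agent.SelfCentSimple

open Subgroup
open Cfsg.Agent.BSW (cent mem_cent)
open scoped commutatorElement

universe u

variable {G : Type u} [Group G] [Finite G] {p : ℕ} [Fact p.Prime]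

theorem coprime_pred (hmin : ∀ q : ℕ, q.Prime → q ∣ Nat.card G → p ≤ q) (n : G) :
    Nat.Coprime (orderOf n) (p - 1) := by
  have hp : p.Prime := Fact.out
  refine Nat.coprime_of_dvd fun q hq h1 h2 => ?_
  have := hmin q hq (h1.trans (orderOf_dvd_natCard n))
  have := Nat.le_of_dvd (show 0 < p - 1 by have := hp.two_le; omega) h2
  have := hp.two_le; omega

/-- A non-cyclic `p`-subgroup, `p` odd and smallest, is normalized by no element of another prime order. -/
theorem no_prime_element (hSC : SelfCentNC.SC G) (hp2 : p ≠ 2)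
    (hmin : ∀ q : ℕ, q.Prime → q ∣ Nat.card G → p ≤ q) (hodd : Odd (Nat.card G))
    {R : Subgroup G} (hR : IsPGroup p R) (hnc : ¬ IsCyclic R) {y : G}
    (hy : y ∈ normalizer (R : Set G)) {s : ℕ} (hs : s.Prime) (hsp : s ≠ p) (hys : orderOf y = s) :
    False := by
  classical
  have hp : p.Prime := Fact.out
  haveI := Fact.mk hs
  have hsd : s ∣ Nat.card G := hys ▸ orderOf_dvd_natCard y
  have hsodd : Odd s := hodd.of_dvd_nat hsd
  have hpd : p ∣ Nat.card G := by
    obtain ⟨k, hk⟩ := IsPGroup.iff_card.1 hR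
    rcases k with _ | k
    · rw [pow_zero] at hk
      haveI : Subsingleton R := (Nat.card_eq_one_iff_unique.1 hk).1
      exact absurd (inferInstance : IsCyclic R) hnc
    · exact (dvd_pow_self p (Nat.succ_ne_zero k)).trans (hk ▸ Subgroup.card_subgroup_dvd_card R)
  have hpodd : Odd p := hodd.of_dvd_nat hpd
  have hs1 : p + 2 ≤ s := by
    obtain ⟨a, ha⟩ := hsodd
    obtain ⟨b, hb⟩ := hpodd
    have := hmin s hs hsd
    omega
  -- two elements
  haveI : Nontrivial R := by
    rcases subsingleton_or_nontrivial R with h | h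
    · exact absurd (inferInstance : IsCyclic R) hnc
    · exact h
  haveI := hR.center_nontrivial
  obtain ⟨k, hk⟩ := IsPGroup.iff_card.1 (hR.to_subgroup (center R))
  have hk0 : k ≠ 0 := fun h => by
    rw [h, pow_zero] at hk; exact (Finite.one_lt_card (α := center R)).ne' hk
  obtain ⟨z₀, hz₀⟩ := exists_prime_orderOf_dvd_card' (G := center R) p (by rw [hk]; exact dvd_pow_self p hk0)
  set z : R := (z₀ : R) with hzdef
  have hz : orderOf z = p := by rw [hzdef, Subgroup.orderOf_coe]; exact hz₀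
  have hzcen : ∀ u : R, u * z = z * u := fun u => Subgroup.mem_center_iff.1 z₀.2 u
  obtain ⟨v, hv, hvz⟩ : ∃ v : R, orderOf v = p ∧ v ∉ zpowers z := by
    by_contra hno
    push Not at hno
    rcases PGroup.unique_order_p_cases (p := p) hR (fun a b ha hb => by
      have hbz : b ∈ zpowers z := by
        rcases (Nat.dvd_prime hp).1 (orderOf_dvd_of_pow_eq_one hb) with e | e
        · rw [orderOf_eq_one_iff.1 e]; exact one_mem _
        · exact hno b e
      have heq : zpowers a = zpowers z := eq_of_le_of_card_ge (zpowers_le.2 (hno a ha))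
        (by rw [Nat.card_zpowers, Nat.card_zpowers, hz, ha])
      rw [heq]; exact hbz) with h | ⟨h, -⟩
    · exact hnc h
    · exact hp2 h
  have hzG : orderOf (z : G) = p := by rw [Subgroup.orderOf_coe]; exact hz
  have hvG : orderOf (v : G) = p := by rw [Subgroup.orderOf_coe]; exact hv
  have hvzG : (v : G) ∉ zpowers (z : G) := by
    rintro ⟨i, hi⟩
    exact hvz ⟨i, Subtype.ext (by simpa using hi)⟩
  obtain ⟨V, hVc, -, -, -, hVmem, -⟩ := exists_pair hSC hzG hvG
    (congrArg Subtype.val (hzcen v)).symm hvzG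
  have hC : Nat.card (cent v) ≤ p ^ 2 := by
    rw [← hVc]
    refine Nat.card_le_card_of_injective
      (fun a => (⟨((a : R) : G), hVmem _ (congrArg Subtype.val (hzcen a)) ?_⟩ : V))
      (fun a b h => Subtype.ext (Subtype.ext (congrArg Subtype.val h :)))
    exact congrArg Subtype.val (mem_cent.1 a.2)
  obtain ⟨hidx, hconj⟩ := class_eq_coset hR hnc hC
  -- the derived subgroup in G
  set D : Subgroup G := ⁅R, R⁆ with hDdef
  have hDR : D ≤ R := commutator_le_self R
  have hDmem : ∀ u : R, u ∈ _root_.commutator R ↔ (u : G) ∈ D := by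
    intro u
    rw [hDdef, ← Subgroup.map_subtype_commutator R]
    exact (Subgroup.mem_map_iff_mem R.subtype_injective).symm
  have hDcard : Nat.card R = p ^ 2 * Nat.card D := by
    rw [← (_root_.commutator R).index_mul_card, hidx, hDdef, ← Subgroup.map_subtype_commutator R,
      Subgroup.card_map_of_injective R.subtype_injective]
  have hyR : ∀ g ∈ zpowers y, ∀ u ∈ R, g * u * g⁻¹ ∈ R := fun g hg u hu =>
    (Subgroup.mem_normalizer_iff.1 (zpowers_le.2 hy hg) u).1 hu
  have hyD : ∀ g ∈ zpowers y, ∀ u ∈ D, g * u * g⁻¹ ∈ D := by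
    intro g hg
    have hle : D.map (MulAut.conj g).toMonoidHom ≤ D := by
      rw [hDdef, Subgroup.map_commutator]
      refine commutator_mono ?_ ?_ <;>
      · rintro _ ⟨u, hu, rfl⟩
        exact hyR g hg u hu
    exact fun u hu => hle ⟨u, hu, rfl⟩
  have hDn : ∀ a ∈ R, ∀ u ∈ D, a * u * a⁻¹ ∈ D := by
    intro a ha u hu
    have h := (inferInstance : (_root_.commutator R).Normal).conj_mem ⟨u, hDR hu⟩
      ((hDmem _).2 hu) ⟨a, ha⟩
    exact (hDmem _).1 h
  -- the elements moved within their coset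
  let F : Subgroup G :=
    { carrier := {u | u ∈ R ∧ ∀ g ∈ zpowers y, u⁻¹ * (g * u * g⁻¹) ∈ D}
      one_mem' := ⟨one_mem _, fun g _ => by simp [one_mem]⟩
      mul_mem' := fun {a b} ha hb => ⟨mul_mem ha.1 hb.1, fun g hg => by
        have h := mul_mem (hDn b⁻¹ (inv_mem hb.1) _ (ha.2 g hg)) (hb.2 g hg)
        have e : (a * b)⁻¹ * (g * (a * b) * g⁻¹) =
            b⁻¹ * (a⁻¹ * (g * a * g⁻¹)) * b⁻¹⁻¹ * (b⁻¹ * (g * b * g⁻¹)) := by group
        rw [e]; exact h⟩
      inv_mem' := fun {a} ha => ⟨inv_mem ha.1, fun g hg => by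
        have h := hDn a ha.1 _ (inv_mem (ha.2 g hg))
        have e : a⁻¹⁻¹ * (g * a⁻¹ * g⁻¹) = a * (a⁻¹ * (g * a * g⁻¹))⁻¹ * a⁻¹ := by group
        rw [e]; exact h⟩ }
  have hDF : D ≤ F := fun u hu => ⟨hDR hu, fun g hg => mul_mem (inv_mem hu) (hyD g hg u hu)⟩
  have hFR : F ≤ R := fun u hu => hu.1
  have hfree : s ∣ ((R : Set G) \ (F : Set G)).ncard := by
    have h := OrderSpec.card_dvd_of_free_conj (zpowers y) ((R : Set G) \ (F : Set G)) ?_ ?_
    · rwa [Nat.card_zpowers, hys] at h
    · rintro g hg u ⟨huR, huF⟩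
      refine ⟨hyR g hg u huR, fun hF => huF ⟨huR, fun k hk => ?_⟩⟩
      -- `u = g⁻¹ (g u g⁻¹) g`
      have hcomm : ∀ a ∈ zpowers y, ∀ b ∈ zpowers y, a * b = b * a := by
        rintro _ ⟨i, rfl⟩ _ ⟨j, rfl⟩
        exact ((Commute.refl y).zpow_zpow i j).eq
      have h1 := hyD g⁻¹ (inv_mem hg) _ (hF.2 k hk)
      have e : u⁻¹ * (k * u * k⁻¹) =
          g⁻¹ * ((g * u * g⁻¹)⁻¹ * (k * (g * u * g⁻¹) * k⁻¹)) * g⁻¹⁻¹ := by
        have e1 : k * g = g * k := hcomm k hk g hg
        calc u⁻¹ * (k * u * k⁻¹) = u⁻¹ * g⁻¹ * (g * k) * u * ((g * k)⁻¹ * g) := by group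
          _ = u⁻¹ * g⁻¹ * (k * g) * u * ((k * g)⁻¹ * g) := by rw [e1]
          _ = _ := by group
      rw [e]; exact h1
    · rintro g hg u ⟨huR, huF⟩ hc
      by_contra hg1
      have hgy : zpowers g = zpowers y := by
        refine eq_of_le_of_card_ge (zpowers_le.2 hg) ?_
        rw [Nat.card_zpowers, Nat.card_zpowers, hys]
        rcases (Nat.dvd_prime hs).1 (hys ▸ orderOf_dvd_of_mem_zpowers hg) with e | e
        · exact absurd (orderOf_eq_one_iff.1 e) hg1
        · exact le_of_eq e.symm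
      refine huF ⟨huR, fun k hk => ?_⟩
      rw [← hgy] at hk
      obtain ⟨i, rfl⟩ := hk
      have : g ^ i * u = u * g ^ i := (Commute.zpow_left (show Commute g u from hc) i).eq
      rw [this, mul_inv_cancel_right, inv_mul_cancel]
      exact one_mem _
  have hFtop : F = R := by
    refine eq_of_le_of_card_ge hFR ?_
    obtain ⟨a, ha⟩ := IsPGroup.iff_card.1 hR
    obtain ⟨b, -, hb⟩ := (Nat.dvd_prime_pow hp).1 (ha ▸ Subgroup.card_dvd_of_le hFR)
    obtain ⟨c, -, hc⟩ := (Nat.dvd_prime_pow hp).1 (ha ▸ Subgroup.card_dvd_of_le hDR)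
    have h1 : Nat.card D ≤ Nat.card F := Subgroup.card_le_of_le hDF
    rw [hb, hc] at h1
    have hcb : c ≤ b := (Nat.pow_le_pow_iff_right hp.one_lt).1 h1
    rw [hDcard, hc, ← pow_add]
    rw [hb]
    refine Nat.pow_le_pow_right hp.pos ?_
    by_contra hlt
    rw [Set.ncard_sdiff (show (F : Set G) ⊆ R from hFR), ← Nat.card_coe_set_eq,
      ← Nat.card_coe_set_eq, SetLike.coe_sort_coe, SetLike.coe_sort_coe, hDcard, hc, hb, ← pow_add] at hfree
    obtain ⟨j, rfl⟩ : ∃ j, b = c + j := ⟨b - c, by omega⟩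
    have hj : j = 0 ∨ j = 1 := by omega
    have hcop : Nat.Coprime s p := (Nat.coprime_primes hs hp).2 hsp
    rcases hj with rfl | rfl
    · rw [add_zero, show 2 + c = c + 2 by omega, pow_add, ← Nat.mul_sub_one] at hfree
      have h2 := (hcop.pow_right c).dvd_of_dvd_mul_left hfree
      obtain ⟨d, hd⟩ : ∃ d, p = d + 1 := ⟨p - 1, by have := hp.two_le; omega⟩
      rw [show p ^ 2 - 1 = (p - 1) * (p + 1) by subst hd; simp; ring_nf; omega] at h2
      rcases hs.dvd_mul.1 h2 with h | h <;>
        have := Nat.le_of_dvd (by have := hp.two_le; omega) h <;> omega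
    · rw [show 2 + c = (c + 1) + 1 by omega, pow_succ p (c + 1), ← Nat.mul_sub_one] at hfree
      have h2 := (hcop.pow_right (c + 1)).dvd_of_dvd_mul_left hfree
      have := Nat.le_of_dvd (by have := hp.two_le; omega) h2
      omega
  -- a fixed element in the coset of v
  have hcoset : ∀ w : R, v⁻¹ * w ∈ _root_.commutator R → orderOf w = p := fun w hw => by
    rw [← hv]; exact (Involution.orderOf_eq_of_isConj (hconj w hw)).symm
  obtain ⟨v', hv'D, hv'fix⟩ : ∃ v' : R, v⁻¹ * v' ∈ _root_.commutator R ∧ Commute y (v' : G) := by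
    by_contra hno
    push Not at hno
    have h := OrderSpec.card_dvd_of_free_conj (zpowers y) ((fun d => (v : G) * d) '' (D : Set G)) ?_ ?_
    · rw [Nat.card_zpowers, hys, Set.ncard_image_of_injective _ (mul_right_injective _),
        ← Nat.card_coe_set_eq, SetLike.coe_sort_coe] at h
      obtain ⟨a, ha⟩ := IsPGroup.iff_card.1 (hR.to_le hDR)
      rw [ha] at h
      exact hsp ((Nat.prime_dvd_prime_iff_eq hs hp).1 (hs.dvd_of_dvd_pow h))
    · rintro g hg _ ⟨d, hd, rfl⟩
      refine ⟨(v : G)⁻¹ * (g * ((v : G) * d) * g⁻¹), ?_, mul_inv_cancel_left _ _⟩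
      have hvF : (v : G) ∈ F := by rw [hFtop]; exact v.2
      have e : (v : G)⁻¹ * (g * ((v : G) * d) * g⁻¹) =
          (v : G)⁻¹ * (g * v * g⁻¹) * (g * d * g⁻¹) := by group
      rw [e]
      exact mul_mem (hvF.2 g hg) (hyD g hg d hd)
    · rintro g hg _ ⟨d, hd, rfl⟩ hc
      by_contra hg1
      have hgy : zpowers g = zpowers y := by
        refine eq_of_le_of_card_ge (zpowers_le.2 hg) ?_
        rw [Nat.card_zpowers, Nat.card_zpowers, hys]
        rcases (Nat.dvd_prime hs).1 (hys ▸ orderOf_dvd_of_mem_zpowers hg) with e | e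
        · exact absurd (orderOf_eq_one_iff.1 e) hg1
        · exact le_of_eq e.symm
      have hy' : y ∈ zpowers g := hgy ▸ mem_zpowers y
      obtain ⟨i, rfl⟩ := hy'
      exact hno (v * ⟨d, hDR hd⟩) (by rw [inv_mul_cancel_left]; exact (hDmem _).2 hd)
        (Commute.zpow_left (show Commute g ((v : G) * d) from hc) i)
  have hv' : orderOf v' = p := hcoset v' hv'D
  -- y fixes a central element of order p
  have hz' : Commute y (z : G) := by
    by_cases hD1 : D = ⊥
    · have hzF : (z : G) ∈ F := by rw [hFtop]; exact z.2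
      have h := hzF.2 y (mem_zpowers y)
      rw [hD1, Subgroup.mem_bot, inv_mul_eq_one, eq_mul_inv_iff_mul_eq] at h
      exact h.symm
    · have hsub : {c : G | c ∈ R ∧ c ^ p = 1 ∧ ∀ u ∈ R, u * c = c * u} ⊆ (zpowers (z : G) : Set G) := by
        rintro c ⟨hcR, hcp, hcc⟩
        by_contra hcz
        have hco : orderOf c = p := by
          rcases (Nat.dvd_prime hp).1 (orderOf_dvd_of_pow_eq_one hcp) with e | e
          · exact absurd (show c ∈ (zpowers (z : G) : Set G) by
              rw [orderOf_eq_one_iff.1 e]; exact one_mem _) hcz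
          · exact e
        obtain ⟨V', hV'c, -, -, -, hV'mem, -⟩ := exists_pair hSC hzG hco (hcc _ z.2) hcz
        have hle : R ≤ V' := fun u hu => hV'mem u (congrArg Subtype.val (hzcen ⟨u, hu⟩)) (hcc u hu)
        have := Subgroup.card_le_of_le hle
        rw [hDcard, hV'c] at this
        refine hD1 (Subgroup.card_eq_one.1 ?_)
        have hpos : 0 < Nat.card D := Nat.card_pos
        have := Nat.le_of_mul_le_mul_left (show p ^ 2 * Nat.card D ≤ p ^ 2 * 1 by simpa using this) (pow_pos hp.pos 2)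
        omega
      set S : Set G := {c : G | c ∈ R ∧ c ^ p = 1 ∧ ∀ u ∈ R, u * c = c * u} \ {1} with hSdef
      by_contra hzy
      have hinv : ∀ g ∈ zpowers y, ∀ c ∈ S, g * c * g⁻¹ ∈ S := by
        rintro g hg c ⟨⟨hcR, hcp, hcc⟩, hc1⟩
        refine ⟨⟨hyR g hg c hcR, by rw [conj_pow, hcp, mul_one, mul_inv_cancel], fun u hu => ?_⟩, ?_⟩
        · have h := hcc (g⁻¹ * u * g⁻¹⁻¹) (hyR g⁻¹ (inv_mem hg) u hu)
          calc u * (g * c * g⁻¹) = g * ((g⁻¹ * u * g⁻¹⁻¹) * c) * g⁻¹ := by group
            _ = g * (c * (g⁻¹ * u * g⁻¹⁻¹)) * g⁻¹ := by rw [h]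
            _ = g * c * g⁻¹ * u := by group
        · simp only [Set.mem_singleton_iff, conj_eq_one_iff] at hc1 ⊢
          exact hc1
      have hfreeS : ∀ g ∈ zpowers y, ∀ c ∈ S, g * c = c * g → g = 1 := by
        intro g hg c hc hgc
        by_contra hg1
        have hgy : zpowers g = zpowers y := by
          refine eq_of_le_of_card_ge (zpowers_le.2 hg) ?_
          rw [Nat.card_zpowers, Nat.card_zpowers, hys]
          rcases (Nat.dvd_prime hs).1 (hys ▸ orderOf_dvd_of_mem_zpowers hg) with e | e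
          · exact absurd (orderOf_eq_one_iff.1 e) hg1
          · exact le_of_eq e.symm
        have hy' : y ∈ zpowers g := hgy ▸ mem_zpowers y
        obtain ⟨i, rfl⟩ := hy'
        refine hzy ?_
        have hcz : c ∈ zpowers (z : G) := hsub hc.1
        have hzc : zpowers c = zpowers (z : G) := by
          refine eq_of_le_of_card_ge (zpowers_le.2 hcz) ?_
          rw [Nat.card_zpowers, Nat.card_zpowers, hzG]
          rcases (Nat.dvd_prime hp).1 (orderOf_dvd_of_pow_eq_one hc.1.2.1) with e | e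
          · exact absurd (orderOf_eq_one_iff.1 e) hc.2
          · exact le_of_eq e.symm
        obtain ⟨j, hj⟩ : (z : G) ∈ zpowers c := hzc ▸ mem_zpowers (z : G)
        rw [← hj]
        exact ((show Commute g c from hgc).zpow_zpow i j)
      have h := OrderSpec.card_dvd_of_free_conj (zpowers y) S hinv hfreeS
      rw [Nat.card_zpowers, hys] at h
      have hzS : (z : G) ∈ S := ⟨⟨z.2, orderOf_dvd_iff_pow_eq_one.1 hzG.dvd,
        fun u hu => congrArg Subtype.val (hzcen ⟨u, hu⟩)⟩, fun h1 => by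
          rw [Set.mem_singleton_iff] at h1; rw [h1, orderOf_one] at hzG; exact hp.one_lt.ne hzG⟩
      have hle : S.ncard ≤ p := by
        rw [← hzG, ← Nat.card_zpowers, ← SetLike.coe_sort_coe, Nat.card_coe_set_eq]
        exact Set.ncard_le_ncard (Set.sdiff_subset.trans hsub) (Set.toFinite _)
      have := Nat.le_of_dvd ((Set.ncard_pos (Set.toFinite _)).2 ⟨_, hzS⟩) h
      omega
  -- the contradiction
  have hv'z : (v' : G) ∉ zpowers (z : G) := by
    rintro ⟨i, hi⟩
    have hi' : z ^ i = v' := Subtype.ext (by simpa using hi)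
    have h1 : Commute v v' := hi' ▸ (show Commute v z from hzcen v).zpow_right i
    obtain ⟨c, hc⟩ := isConj_iff.1 (hconj v' hv'D)
    have h2 : v = v' := by
      have h3 : c⁻¹ * v' * c = v' := by
        rw [← hi', mul_assoc, ← (show Commute c z from hzcen c).zpow_right i, inv_mul_cancel_left]
      rw [← h3, ← hc]; group
    exact hvz ⟨i, by rw [h2]; exact hi'⟩
  obtain ⟨V', -, -, -, -, hV'mem, hV'p⟩ := exists_pair hSC hzG
    (by rw [Subgroup.orderOf_coe]; exact hv') (congrArg Subtype.val (hzcen v')).symm hv'z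
  have := hV'p y (hV'mem y hz' hv'fix)
  have h := orderOf_dvd_of_pow_eq_one this
  rw [hys] at h
  exact hsp ((Nat.prime_dvd_prime_iff_eq hs hp).1 h)

/-- Normal `p`-complement for the smallest prime unless `p = 2` and a Sylow subgroup is not cyclic. -/
theorem complement_of_smallest (hSC : SelfCentNC.SC G)
    (hmin : ∀ q : ℕ, q.Prime → q ∣ Nat.card G → p ≤ q) (P : Sylow p G)
    (hP : p = 2 → IsCyclic (P : Subgroup G)) (hodd : p ≠ 2 → Odd (Nat.card G)) :
    Cfsg.HasNormalPComplement p G := by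
  refine Transfer.hasNormalPComplement_of_local P fun R hR _ n hn hco => ?_
  have hRp : IsPGroup p R := P.2.to_le hR.1
  by_cases hc : IsCyclic R
  · exact cyclic_fixed hRp hc hn (Nat.Coprime.mul_right hco (coprime_pred hmin n))
  by_cases hp2 : p = 2
  · haveI := hP hp2
    exact absurd (isCyclic_of_injective (Subgroup.inclusion hR.1) (Subgroup.inclusion_injective hR.1)) hc
  by_cases hn1 : n = 1
  · rw [hn1]; exact one_mem _
  exfalso
  obtain ⟨s, hs, hsd⟩ := Nat.exists_prime_and_dvd (mt orderOf_eq_one_iff.1 hn1)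
  refine no_prime_element hSC hp2 hmin (hodd hp2) hRp hc (y := n ^ (orderOf n / s)) (pow_mem hn _) hs
    (fun e => ?_) (orderOf_pow_orderOf_div (orderOf_pos n).ne' hsd)
  exact hs.one_lt.ne' (Nat.eq_one_of_dvd_coprimes hco hsd (e ▸ dvd_refl s))

omit [Fact p.Prime] in
theorem even_card [IsSimpleGroup G] (hna : ¬ IsMulCommutative G) (hSC : SelfCentNC.SC G) :
    2 ∣ Nat.card G := by
  by_contra h2
  haveI := IsSimpleGroup.toNontrivial (G := G)
  have h1 : Nat.card G ≠ 1 := (Finite.one_lt_card).ne'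
  haveI := Fact.mk (Nat.minFac_prime h1)
  refine not_complement hna (Nat.minFac_dvd _) (complement_of_smallest hSC
    (fun q hq hd => Nat.minFac_le_of_dvd hq.two_le hd) default (fun e => ?_) fun _ => ?_)
  · exact absurd (e ▸ Nat.minFac_dvd _) h2
  · exact Nat.not_even_iff_odd.1 fun he => h2 (even_iff_two_dvd.1 he)

omit [Fact p.Prime] in
theorem not_isCyclic_sylow_two [IsSimpleGroup G] (hna : ¬ IsMulCommutative G) (hSC : SelfCentNC.SC G)
    (P : Sylow 2 G) : ¬ IsCyclic (P : Subgroup G) := fun h =>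
  not_complement hna (even_card hna hSC) (complement_of_smallest hSC (fun _q hq _ => hq.two_le) P
    (fun _ => h) fun e => absurd rfl e)

end Cfsg.Agent.SelfCentSimple
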